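import Cfsg.Agent.DegreeThreeP.Sylow
import Cfsg.Agent.FrobComp.DivisionRing

/-!
# Groups of order eight
-/

set_option autoImplicit false
set_option linter.style.haveILetI false
set_option linter.unusedSectionVars false

namespace CfsgLib.Walter.Eight

open Subgroup

variable {S : Type*} [Group S] [Finite S]

/-- A nonabelian group of order eight is dihedral or quaternion. -/
theorem dihedral_or_quaternion (h8 : Nat.card S = 8) (hna : ¬ ∀ a b : S, a * b = b * a) :
    Nonempty (S ≃* DihedralGroup 4) ∨ Nonempty (S ≃* QuaternionGroup 2) := by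
  by_cases hinv : ∃ s y : S, s * s = 1 ∧ s * y ≠ y * s
  · obtain ⟨s, y, hs, hsy⟩ := hinv
    exact Or.inl (DegreeThreeP.dihedral_of_eight h8 hs hsy)
  push Not at hinv
  right
  have hord : ∀ g : S, g * g = 1 ∨ orderOf g = 4 := by
    intro g
    have hd : orderOf g ∣ 2 ^ 3 := by rw [show (2:ℕ) ^ 3 = 8 from rfl, ← h8]; exact orderOf_dvd_natCard g
    obtain ⟨i, hi, he⟩ := (Nat.dvd_prime_pow Nat.prime_two).1 hd
    interval_cases i
    · left; rw [(orderOf_eq_one_iff (x := g)).1 (by simpa using he), mul_one]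
    · left; rw [← pow_two, ← orderOf_dvd_iff_pow_eq_one, he, pow_one]
    · right; simpa using he
    · exfalso
      haveI := isCyclic_of_orderOf_eq_card g (by rw [he, h8]; norm_num)
      exact hna fun a b => IsCyclic.commGroup.mul_comm a b
  obtain ⟨a, ha⟩ : ∃ a : S, orderOf a = 4 := by
    by_contra h
    push Not at h
    exact hna fun a b => hinv a b ((hord a).resolve_right (h a))
  obtain ⟨b, hb⟩ : ∃ b : S, b ∉ zpowers a := by
    by_contra h
    push Not at h
    have := Nat.card_le_card_of_injective (fun x : S => (⟨x, h x⟩ : zpowers a))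
      fun x y e => congrArg Subtype.val e
    rw [h8, Nat.card_zpowers, ha] at this
    omega
  have hidx : (zpowers a).index = 2 := by
    have := (zpowers a).card_mul_index
    rw [Nat.card_zpowers, ha, h8] at this
    omega
  have hspan : ∀ P : Subgroup S, a ∈ P → b ∈ P → P = ⊤ := fun P h1 h2 => by
    have hle : zpowers a < P := lt_of_le_of_ne (zpowers_le.2 h1) fun e => hb (e ▸ h2)
    rcases (Nat.dvd_prime Nat.prime_two).1 (hidx ▸ index_dvd_of_le hle.le) with h | h
    · exact index_eq_one.1 h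
    · exact absurd h (hidx ▸ (index_strictAnti hle).ne)
  haveI : (zpowers a).Normal := normal_of_index_eq_two hidx
  have hab : a * b ≠ b * a := fun e => hna fun x y => by
    have hP : centralizer ({a, b} : Set S) = ⊤ := hspan _
      (mem_centralizer_iff.2 fun g hg => by rcases hg with rfl | rfl <;> [rfl; exact e.symm])
      (mem_centralizer_iff.2 fun g hg => by rcases hg with rfl | rfl <;> [exact e; rfl])
    have hc : ∀ g : S, ∀ z ∈ ({a, b} : Set S), z * g = g * z := fun g z hz =>
      mem_centralizer_iff.1 (hP ▸ mem_top g) z hz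
    have hC : centralizer ({x} : Set S) = ⊤ := hspan _
      (mem_centralizer_singleton_iff.2 (hc x a (Or.inl rfl)))
      (mem_centralizer_singleton_iff.2 (hc x b (Or.inr rfl)))
    exact (mem_centralizer_singleton_iff.1 (hC ▸ mem_top y)).symm
  have hb4 : orderOf b = 4 := (hord b).resolve_left fun h => hab (hinv b a h).symm
  have hcard4 : ∀ c ∈ zpowers a, c = 1 ∨ c = a ∨ c = a ^ 2 ∨ c = a ^ 3 := by
    intro c hc
    obtain ⟨k, rfl⟩ := mem_powers_iff_mem_zpowers.2 hc
    show a ^ k = 1 ∨ a ^ k = a ∨ a ^ k = a ^ 2 ∨ a ^ k = a ^ 3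
    rw [← pow_mod_orderOf a k, ha]
    have : k % 4 < 4 := Nat.mod_lt _ (by norm_num)
    interval_cases k % 4 <;> simp
  have ha4 : a ^ 4 = 1 := by rw [← ha]; exact pow_orderOf_eq_one a
  have hbb : b * b = a ^ 2 := by
    have hmem : b * b ∈ zpowers a := mul_self_mem_of_index_two hidx b
    rcases hcard4 _ hmem with h | h | h | h
    · rw [← pow_two, ← orderOf_dvd_iff_pow_eq_one, hb4] at h
      norm_num at h
    · exact absurd (by rw [← h, mul_assoc]) hab
    · exact h
    · refine absurd ?_ hab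
      have he : a = (b * b) ^ 3 := by
        rw [h, ← pow_mul, show 3 * 3 = 4 + 4 + 1 from rfl, pow_succ, pow_add, ha4, one_mul, one_mul]
      rw [he]
      exact (((Commute.refl b).mul_left (Commute.refl b)).pow_left 3).eq
  have hconj : b * a = a ^ 3 * b := by
    have ho : orderOf (b * a * b⁻¹) = 4 := ((MulAut.conj b).orderOf_eq a).trans ha
    rcases hcard4 _ (Normal.conj_mem ‹_› a (mem_zpowers a) b) with h | h | h | h
    · rw [h, orderOf_one] at ho; norm_num at ho
    · exact absurd (mul_inv_eq_iff_eq_mul.1 h).symm hab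
    · rw [h, orderOf_pow_of_dvd two_ne_zero (by rw [ha]; norm_num), ha] at ho; norm_num at ho
    · exact mul_inv_eq_iff_eq_mul.1 h
  let f := FrobComp.quaternionHom 2 a b ha4 hbb hconj
  have hsurj : Function.Surjective f := MonoidHom.range_eq_top.1 (hspan _
    ⟨.a 1, show a ^ (1 : ZMod (2 * 2)).val = a from pow_one a⟩
    ⟨.xa 0, show b * a ^ (0 : ZMod (2 * 2)).val = b by rw [ZMod.val_zero, pow_zero, mul_one]⟩)
  refine ⟨(MulEquiv.ofBijective f ((Nat.bijective_iff_surjective_and_card f).2 ⟨hsurj, ?_⟩)).symm⟩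
  rw [h8, Nat.card_eq_fintype_card, QuaternionGroup.card]

/-- In an abelian group of order eight a nontrivial power by two or by four is one fixed element. -/
theorem exists_unique_power (h8 : Nat.card S = 8) (hab : ∀ a b : S, a * b = b * a)
    (hsq : ¬ ∀ a : S, a * a = 1) :
    ∃ (k : ℕ) (s₀ : S), s₀ ≠ 1 ∧ (∃ a : S, a ^ k = s₀) ∧ ∀ a : S, a ^ k = 1 ∨ a ^ k = s₀ := by
  let _ : CommGroup S := { (inferInstance : Group S) with mul_comm := hab }
  suffices H : ∃ k, (∀ a : S, (a ^ k) ^ 2 = 1) ∧ (powMonoidHom k : S →* S).range ≠ ⊥ ∧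
      Nat.card (powMonoidHom k : S →* S).range ≤ 2 by
    obtain ⟨k, -, hne, hle⟩ := H
    obtain ⟨⟨s₀, a, ha⟩, hx⟩ := Subgroup.ne_bot_iff_exists_ne_one.1 hne
    have hs0 : s₀ ≠ 1 := fun e => hx (Subtype.ext e)
    refine ⟨k, s₀, hs0, ⟨a, ha⟩, fun b => ?_⟩
    by_contra hcon
    push Not at hcon
    classical
    have h3 : ({1, s₀, b ^ k} : Finset S).card = 3 := by
      rw [Finset.card_insert_of_notMem, Finset.card_pair hcon.2.symm]
      simp [hs0.symm, hcon.1.symm]
    have hsub : (({1, s₀, b ^ k} : Finset S) : Set S) ⊆ (powMonoidHom k : S →* S).range := by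
      intro x hx
      simp only [Finset.coe_insert, Finset.coe_singleton, Set.mem_insert_iff, Set.mem_singleton_iff] at hx
      rcases hx with rfl | rfl | rfl
      exacts [one_mem _, ⟨a, ha⟩, ⟨b, rfl⟩]
    have h := Set.ncard_le_ncard hsub
    rw [Set.ncard_coe_finset, h3, ← Nat.card_coe_set_eq] at h
    exact absurd (h.trans hle) (by norm_num)
  by_cases h4 : ∀ a : S, a ^ 4 = 1
  · refine ⟨2, fun a => by rw [← pow_mul]; exact h4 a, ?_, ?_⟩
    · intro e
      refine hsq fun a => ?_
      have : a ^ 2 ∈ (powMonoidHom 2 : S →* S).range := ⟨a, rfl⟩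
      rwa [e, mem_bot, pow_two] at this
    · have hle : (powMonoidHom 2 : S →* S).range ≤ (powMonoidHom 2 : S →* S).ker := by
        rintro _ ⟨a, rfl⟩
        show (a ^ 2) ^ 2 = 1
        rw [← pow_mul]; exact h4 a
      have h1 := Subgroup.card_le_of_le hle
      have h2 := (powMonoidHom 2 : S →* S).ker.card_mul_index
      rw [Subgroup.index_ker, h8] at h2
      by_contra hlt
      push Not at hlt
      have := Nat.mul_le_mul (le_trans hlt h1) hlt
      omega
  · push Not at h4
    obtain ⟨g, hg⟩ := h4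
    have hg8 : orderOf g = 8 := by
      have hd : orderOf g ∣ 2 ^ 3 := by rw [show (2:ℕ) ^ 3 = 8 from rfl, ← h8]; exact orderOf_dvd_natCard g
      obtain ⟨i, hi, he⟩ := (Nat.dvd_prime_pow Nat.prime_two).1 hd
      rcases Nat.lt_or_ge i 3 with h | h
      · exact absurd (orderOf_dvd_iff_pow_eq_one.1 (he ▸ (pow_dvd_pow 2 (show i ≤ 2 by omega)))) hg
      · rw [he, show i = 3 by omega]; norm_num
    refine ⟨4, fun a => by rw [← pow_mul, show 4 * 2 = 8 from rfl, ← h8, pow_card_eq_one'], ?_, ?_⟩
    · intro e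
      have : g ^ 4 ∈ (powMonoidHom 4 : S →* S).range := ⟨g, rfl⟩
      rw [e, mem_bot] at this
      exact hg this
    · have hle : (powMonoidHom 4 : S →* S).range ≤ zpowers (g ^ 4) := by
        rintro _ ⟨a, rfl⟩
        obtain ⟨j, rfl⟩ : a ∈ zpowers g := by
          have : zpowers g = ⊤ := (card_eq_iff_eq_top _).1 (by rw [Nat.card_zpowers, hg8, h8])
          rw [this]; trivial
        refine mem_zpowers_iff.2 ⟨j, ?_⟩
        show (g ^ 4) ^ j = (g ^ j) ^ 4
        rw [← zpow_natCast, ← zpow_natCast, ← zpow_mul, ← zpow_mul, mul_comm]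
      refine (Subgroup.card_le_of_le hle).trans ?_
      rw [Nat.card_zpowers, orderOf_pow_of_dvd (by norm_num) (by rw [hg8]; norm_num), hg8]

end CfsgLib.Walter.Eight
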