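import Cfsg.Agent.Walter.Setting
import Cfsg.Agent.Walter.Final90.Eight
import Cfsg.Agent.Linear.Basic
import Cfsg.Agent.Inv54.Core
import Cfsg.Agent.S0201
import Cfsg.Agent.S0343
import Cfsg.Agent.S0483

/-!
# Simple groups with Sylow 2-subgroups of order eight, from the elementary abelian case
-/

set_option autoImplicit false
set_option linter.style.haveILetI false
set_option linter.unusedSectionVars false

open Subgroup

namespace CfsgLib.Walter

universe u

/-- The 2-part of the order of `PSL₂(q)`. -/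
theorem mod_sixteen_of_psl {q n : ℕ} (hodd : Odd q) (hn : 2 * n = q * (q ^ 2 - 1)) (h8 : 8 ∣ n)
    (h16 : ¬ 16 ∣ n) : q % 16 = 7 ∨ q % 16 = 9 := by
  have h : (q * (q ^ 2 - 1)) % 32 = 16 := by rw [← hn]; omega
  have h1 : 1 ≤ q ^ 2 := Nat.one_le_pow _ _ hodd.pos
  obtain ⟨k, r, hr, rfl⟩ : ∃ k r, r < 16 ∧ q = 16 * k + r :=
    ⟨q / 16, q % 16, Nat.mod_lt _ (by norm_num), (Nat.div_add_mod q 16).symm⟩
  have e : (16 * k + r) ^ 2 = 32 * (8 * k * k + k * r) + r ^ 2 := by ring
  rw [Nat.odd_iff] at hodd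
  rw [e] at h
  by_contra hne
  have hc : Nat.Coprime 16 (16 * k + r) :=
    Nat.Coprime.pow_left 4 (Nat.coprime_two_left.2 (Nat.odd_iff.2 hodd))
  have h16' : 16 ∣ 32 * (8 * k * k + k * r) + r ^ 2 - 1 := hc.dvd_of_dvd_mul_left (by omega)
  have h32 : 32 ∣ 32 * (8 * k * k + k * r) + r ^ 2 - 1 := by
    interval_cases r <;> omega
  have h0 := Nat.mod_eq_zero_of_dvd (Dvd.dvd.mul_left h32 (16 * k + r))
  omega

/-- In an abelian Sylow 2-subgroup of order eight of a simple group all squares are trivial. -/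
theorem elementary_of_comm {G : Type*} [Group G] [Finite G] [IsSimpleGroup G] (hG : ¬ IsMulCommutative G)
    (T : Sylow 2 G) (hT : Nat.card (T : Subgroup G) = 8)
    (hab : ∀ a b : (T : Subgroup G), a * b = b * a) : ∀ s ∈ (T : Subgroup G), s * s = 1 := by
  by_contra hcon
  haveI : IsMulCommutative (T : Subgroup G) := ⟨⟨hab⟩⟩
  obtain ⟨k, s₀, hs0, ⟨a, ha⟩, huniq⟩ := Eight.exists_unique_power hT hab fun h => hcon fun s hs =>
    congrArg Subtype.val (h ⟨s, hs⟩)
  obtain ⟨n, hn, hmove⟩ := Inv53.exists_moves hG T s₀.2 fun e => hs0 (Subtype.ext e)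
  let b : (T : Subgroup G) := ⟨n * a * n⁻¹, (mem_normalizer_iff.1 hn a).1 a.2⟩
  have hbk : ((b ^ k : (T : Subgroup G)) : G) = n * s₀ * n⁻¹ := by
    rw [← ha]; simp [b, conj_pow]
  rcases huniq b with h | h
  · rw [h, OneMemClass.coe_one] at hbk
    exact hs0 (Subtype.ext (conj_eq_one_iff.1 hbk.symm))
  · rw [h] at hbk
    exact hmove hbk.symm

/-- A group of Janko–Ree type and even order is `J₁` or of Ree type. -/
theorem IsJR.j1_or_ree {J : Type*} [Group J] [Finite J] (h : IsJR J) (h2 : 2 ∣ Nat.card J) :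
    Cfsg.IsJ1 J ∨ Cfsg.IsRee J := by
  haveI := h.1
  haveI : Fact (Nat.Prime 2) := ⟨Nat.prime_two⟩
  have hab : ∀ P : Sylow 2 J, ∀ a b : P, a * b = b * a := by
    intro P
    haveI : Nontrivial (P : Subgroup J) :=
      Finite.one_lt_card_iff_nontrivial.1 (by
        rw [P.card_eq_multiplicity]
        exact Nat.one_lt_pow (Nat.pos_iff_ne_zero.1
          (Nat.prime_two.factorization_pos_of_dvd Nat.card_pos.ne' h2)) one_lt_two)
    haveI := P.isPGroup'.center_nontrivial
    obtain ⟨c, hc⟩ := exists_prime_orderOf_dvd_card' 2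
      ((Finite.one_lt_card_iff_nontrivial.2 inferInstance |> fun hlt => by
        obtain ⟨j, hj⟩ := IsPGroup.iff_card.1 (P.isPGroup'.to_subgroup (Subgroup.center (P : Subgroup J)))
        rw [hj] at hlt ⊢
        exact dvd_pow_self 2 fun e => by rw [e] at hlt; norm_num at hlt) :
        2 ∣ Nat.card (Subgroup.center (P : Subgroup J)))
    obtain ⟨F, iF, iFf, hq, h5, ⟨e⟩⟩ := h.2 ((c : (P : Subgroup J)) : J)
      (by rw [Subgroup.orderOf_coe, Subgroup.orderOf_coe, hc])
    have hodd : Odd (Fintype.card F) := by rw [Nat.odd_iff]; omega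
    have hcard := Linear.card_PSL_two_odd (F := F) hodd
    have h4 : ¬ 8 ∣ Nat.card (Matrix.ProjectiveSpecialLinearGroup (Fin 2) F) := by
      intro h8
      set q := Fintype.card F
      have hd : 16 ∣ q * (q ^ 2 - 1) := by rw [← hcard]; omega
      obtain ⟨k, r, hr, hqr⟩ : ∃ k r, r < 8 ∧ q = 8 * k + r :=
        ⟨q / 8, q % 8, Nat.mod_lt _ (by norm_num), (Nat.div_add_mod q 8).symm⟩
      have hsq : 16 ∣ q ^ 2 - 1 :=
        (Nat.Coprime.dvd_mul_left (Nat.Coprime.pow_left 4 (Nat.coprime_two_left.2 hodd))).1 hd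
      rw [hqr, show (8 * k + r) ^ 2 = 16 * (4 * k * k + k * r) + r ^ 2 by ring] at hsq
      have : r = 3 ∨ r = 5 := by omega
      rcases this with rfl | rfl <;> omega
    let φ : (P : Subgroup J) →* Multiplicative (ZMod 2) × Matrix.ProjectiveSpecialLinearGroup (Fin 2) F :=
      e.toMonoidHom.comp ((P : Subgroup J).subtype.codRestrict _ fun x =>
        mem_centralizer_singleton_iff.2 (congrArg Subtype.val (Subgroup.mem_center_iff.1 c.2 x)))
    have hφ : Function.Injective φ := e.injective.comp fun x y hxy =>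
      Subtype.ext (congrArg (fun z : centralizer _ => (z : J)) hxy)
    let R := ((MonoidHom.snd (Multiplicative (ZMod 2)) _).comp φ).range
    have hR : IsPGroup 2 R :=
      P.isPGroup'.of_surjective _ ((MonoidHom.snd (Multiplicative (ZMod 2)) _).comp φ).rangeRestrict_surjective
    obtain ⟨j, hj⟩ := IsPGroup.iff_card.1 hR
    have hj2 : j ≤ 2 := by
      by_contra hlt
      exact h4 ((pow_dvd_pow 2 (show 3 ≤ j by omega)).trans (hj ▸ R.card_subgroup_dvd_card))
    have hRc : ∀ x y : R, x * y = y * x := by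
      interval_cases j
      · haveI := Nat.card_eq_one_iff_unique.1 (hj.trans (pow_zero 2)) |>.1
        exact fun x y => Subsingleton.elim _ _
      · haveI : IsCyclic R := isCyclic_of_prime_card (hj.trans (pow_one 2))
        exact IsCyclic.commGroup.mul_comm
      · exact (IsPGroup.commGroupOfCardEqPrimeSq hj).mul_comm
    intro a b
    refine hφ (Prod.ext ?_ ?_)
    · simp only [map_mul, Prod.fst_mul]; exact mul_comm _ _
    · simp only [map_mul, Prod.snd_mul]
      exact congrArg Subtype.val (hRc ⟨_, a, rfl⟩ ⟨_, b, rfl⟩)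
  obtain ⟨t, ht⟩ := exists_prime_orderOf_dvd_card' 2 h2
  obtain ⟨F, iF, iFf, hq, h5, hC⟩ := h.2 t ht
  rcases Cfsg.Agent.S0343.result hab (F := F) (by omega) t ht hC with ⟨m, hm, -, hc⟩ | ⟨-, hJ⟩
  · exact Or.inr ⟨h.1, m, hm, hc⟩
  · exact Or.inl hJ

/-- **Simple groups with Sylow 2-subgroups of order eight**, given the elementary abelian case. -/
theorem sylow_eight_of (h : ∀ m, SimpleHyp.{u} m) {G : Type u} [Group G] [Finite G] [IsSimpleGroup G]
    (hG : ¬ IsMulCommutative G) (T : Sylow 2 G) (hT : Nat.card ↥(T : Subgroup G) = 8) :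
    (∃ (F : Type) (_ : Field F) (_ : Fintype F), Fintype.card F = 8 ∧
        Nonempty (G ≃* Matrix.ProjectiveSpecialLinearGroup (Fin 2) F)) ∨
      (∃ (F : Type) (_ : Field F) (_ : Fintype F), (Fintype.card F % 16 = 7 ∨ Fintype.card F % 16 = 9) ∧
        Nonempty (G ≃* Matrix.ProjectiveSpecialLinearGroup (Fin 2) F)) ∨
      Nonempty (G ≃* alternatingGroup (Fin 7)) ∨ Cfsg.IsJ1 G ∨ Cfsg.IsRee G := by
  haveI : Fact (Nat.Prime 2) := ⟨Nat.prime_two⟩
  have h8G : 8 ∣ Nat.card G := hT ▸ (T : Subgroup G).card_subgroup_dvd_card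
  have h16 : ¬ 16 ∣ Nat.card G := fun h16 => by
    have hd := (Nat.prime_two.pow_dvd_iff_le_factorization Nat.card_pos.ne').1 (show 2 ^ 4 ∣ Nat.card G from h16)
    have he := T.card_eq_multiplicity
    rw [hT] at he
    have := (Nat.pow_le_pow_iff_right (le_refl 2)).2 hd
    omega
  have hO : ∀ N : Subgroup G, N.Normal → Odd (Nat.card N) → N = ⊥ := fun N hN hodd =>
    hN.eq_bot_or_eq_top.resolve_right fun e => by
      subst e
      rw [Subgroup.card_top, Nat.odd_iff] at hodd
      omega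
  by_cases hab : ∀ a b : (T : Subgroup G), a * b = b * a
  · rcases h (Nat.card G) G inferInstance le_rfl T hT (elementary_of_comm hG T hT hab) with h' | h'
    · exact Or.inl h'
    · exact Or.inr (Or.inr (Or.inr (h'.j1_or_ree (dvd_trans (by norm_num) h8G))))
  rcases Eight.dihedral_or_quaternion hT hab with hD | ⟨⟨e⟩⟩
  · haveI : Group.IsPerfect G := ⟨Inv53.commutator_eq_top_of_simple hG⟩
    have hc : Cfsg.oddCore G = ⊥ := hO _ inferInstance (Inv54.odd_card_oddCore (G := G))
    have eG : G ⧸ Cfsg.oddCore G ≃* G :=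
      (QuotientGroup.quotientMulEquivOfEq hc).trans QuotientGroup.quotientBot
    rcases Cfsg.Agent.S0483.result T 4 (by norm_num) hD with ⟨F, iF, iFf, hodd, -, ⟨f⟩⟩ | hA
    · refine Or.inr (Or.inl ⟨F, iF, iFf, mod_sixteen_of_psl hodd ?_ h8G h16, ⟨eG.symm.trans f⟩⟩)
      rw [Nat.card_congr (eG.symm.trans f).toEquiv]
      exact Linear.card_PSL_two_odd hodd
    · exact Or.inr (Or.inr (Or.inl (hA.map eG.symm.trans)))
  · exfalso
    have hz := Cfsg.Agent.S0201.result T 0 (show (T : Subgroup G) ≃* QuaternionGroup (2 ^ (0 + 1)) from e) hO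
    rcases (inferInstance : (Subgroup.center G).Normal).eq_bot_or_eq_top with h' | h'
    · rw [h', Subgroup.card_bot] at hz; omega
    · exact hG ⟨⟨fun p q => (Subgroup.mem_center_iff.1 (h' ▸ mem_top p) q).symm⟩⟩

end CfsgLib.Walter
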